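import Cfsg.Agent.Lib.CosetTable.SuzSimple.Data
import Cfsg.Agent.Lib.CosetTable.Maximal
import Cfsg.Agent.Lib.CosetTable.Suz1782.Data

/-! Generated checks for the base and orbit data of `Suz1782`. -/

set_option Elab.async false

namespace Cfsg.Agent.Lib.CosetTable.SuzSimple

open Cfsg.Agent.Lib.CosetTable

theorem lev1_run1 : rangeAll (lev1.reachOK Suz1782.tab ws1) 256 0 = true := by decide +kernel

theorem lev1_run2 : rangeAll (lev1.reachOK Suz1782.tab ws1) 256 256 = true := by decide +kernel

theorem lev1_run3 : rangeAll (lev1.reachOK Suz1782.tab ws1) 256 512 = true := by decide +kernel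

theorem lev1_run4 : rangeAll (lev1.reachOK Suz1782.tab ws1) 256 768 = true := by decide +kernel

theorem lev1_run5 : rangeAll (lev1.reachOK Suz1782.tab ws1) 256 1024 = true := by decide +kernel

theorem lev1_run6 : rangeAll (lev1.reachOK Suz1782.tab ws1) 256 1280 = true := by decide +kernel

theorem lev1_run7 : rangeAll (lev1.reachOK Suz1782.tab ws1) 246 1536 = true := by decide +kernel

theorem lev1_ok : Below (lev1.reachOK Suz1782.tab ws1) lev1.m :=
  (((((((Below.zero _).step (b := 256) lev1_run1 rfl).step (b := 512) lev1_run2 rfl).step (b := 768) lev1_run3 rfl).step (b := 1024) lev1_run4 rfl).step (b := 1280) lev1_run5 rfl).step (b := 1536) lev1_run6 rfl).step (b := 1782) lev1_run7 rfl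

theorem lev2_run1 : rangeAll (lev2.reachOK Suz1782.tab ws2) 256 0 = true := by decide +kernel

theorem lev2_run2 : rangeAll (lev2.reachOK Suz1782.tab ws2) 256 256 = true := by decide +kernel

theorem lev2_run3 : rangeAll (lev2.reachOK Suz1782.tab ws2) 256 512 = true := by decide +kernel

theorem lev2_run4 : rangeAll (lev2.reachOK Suz1782.tab ws2) 256 768 = true := by decide +kernel

theorem lev2_run5 : rangeAll (lev2.reachOK Suz1782.tab ws2) 256 1024 = true := by decide +kernel

theorem lev2_run6 : rangeAll (lev2.reachOK Suz1782.tab ws2) 85 1280 = true := by decide +kernel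

theorem lev2_ok : Below (lev2.reachOK Suz1782.tab ws2) lev2.m :=
  ((((((Below.zero _).step (b := 256) lev2_run1 rfl).step (b := 512) lev2_run2 rfl).step (b := 768) lev2_run3 rfl).step (b := 1024) lev2_run4 rfl).step (b := 1280) lev2_run5 rfl).step (b := 1365) lev2_run6 rfl

theorem lev3_run1 : rangeAll (lev3.reachOK Suz1782.tab ws3) 256 0 = true := by decide +kernel

theorem lev3_run2 : rangeAll (lev3.reachOK Suz1782.tab ws3) 256 256 = true := by decide +kernel

theorem lev3_run3 : rangeAll (lev3.reachOK Suz1782.tab ws3) 256 512 = true := by decide +kernel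

theorem lev3_run4 : rangeAll (lev3.reachOK Suz1782.tab ws3) 256 768 = true := by decide +kernel

theorem lev3_ok : Below (lev3.reachOK Suz1782.tab ws3) lev3.m :=
  ((((Below.zero _).step (b := 256) lev3_run1 rfl).step (b := 512) lev3_run2 rfl).step (b := 768) lev3_run3 rfl).step (b := 1024) lev3_run4 rfl

theorem lev4_run1 : rangeAll (lev4.reachOK Suz1782.tab ws4) 3 0 = true := by decide +kernel

theorem lev4_ok : Below (lev4.reachOK Suz1782.tab ws4) lev4.m :=
  (Below.zero _).step (b := 3) lev4_run1 rfl

theorem lev5_run1 : rangeAll (lev5.reachOK Suz1782.tab ws5) 5 0 = true := by decide +kernel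

theorem lev5_ok : Below (lev5.reachOK Suz1782.tab ws5) lev5.m :=
  (Below.zero _).step (b := 5) lev5_run1 rfl

theorem lev6_run1 : rangeAll (lev6.reachOK Suz1782.tab ws6) 4 0 = true := by decide +kernel

theorem lev6_ok : Below (lev6.reachOK Suz1782.tab ws6) lev6.m :=
  (Below.zero _).step (b := 4) lev6_run1 rfl

theorem lev7_run1 : rangeAll (lev7.reachOK Suz1782.tab ws7) 3 0 = true := by decide +kernel

theorem lev7_ok : Below (lev7.reachOK Suz1782.tab ws7) lev7.m :=
  (Below.zero _).step (b := 3) lev7_run1 rfl

theorem levels_ok : LevelsOK Suz1782.cert Suz1782.tab levels :=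
  ⟨⟨by decide +kernel, lev1_ok, by decide +kernel, by decide +kernel⟩,
   ⟨by decide +kernel, lev2_ok, by decide +kernel, by decide +kernel⟩,
   ⟨by decide +kernel, lev3_ok, by decide +kernel, by decide +kernel⟩,
   ⟨by decide +kernel, lev4_ok, by decide +kernel, by decide +kernel⟩,
   ⟨by decide +kernel, lev5_ok, by decide +kernel, by decide +kernel⟩,
   ⟨by decide +kernel, lev6_ok, by decide +kernel, by decide +kernel⟩,
   ⟨by decide +kernel, lev7_ok, by decide +kernel, by decide +kernel⟩,
   trivial⟩

theorem levels_card : levelsCard levels = 448345497600 := by decide +kernel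

theorem elt_run1 : rangeAll (Suz1782.tab.fixOK [(List.replicate 11 elt).flatten]) 256 0 = true := by decide +kernel

theorem elt_run2 : rangeAll (Suz1782.tab.fixOK [(List.replicate 11 elt).flatten]) 256 256 = true := by decide +kernel

theorem elt_run3 : rangeAll (Suz1782.tab.fixOK [(List.replicate 11 elt).flatten]) 256 512 = true := by decide +kernel

theorem elt_run4 : rangeAll (Suz1782.tab.fixOK [(List.replicate 11 elt).flatten]) 256 768 = true := by decide +kernel

theorem elt_run5 : rangeAll (Suz1782.tab.fixOK [(List.replicate 11 elt).flatten]) 256 1024 = true := by decide +kernel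

theorem elt_run6 : rangeAll (Suz1782.tab.fixOK [(List.replicate 11 elt).flatten]) 256 1280 = true := by decide +kernel

theorem elt_run7 : rangeAll (Suz1782.tab.fixOK [(List.replicate 11 elt).flatten]) 246 1536 = true := by decide +kernel

theorem elt_pow : Below (Suz1782.tab.fixOK [(List.replicate 11 elt).flatten]) 1782 :=
  (((((((Below.zero _).step (b := 256) elt_run1 rfl).step (b := 512) elt_run2 rfl).step (b := 768) elt_run3 rfl).step (b := 1024) elt_run4 rfl).step (b := 1280) elt_run5 rfl).step (b := 1536) elt_run6 rfl).step (b := 1782) elt_run7 rfl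

theorem cover_run1 : rangeAll (covered [Suz1782.orb1, Suz1782.orb2]) 512 0 = true := by decide +kernel

theorem cover_run2 : rangeAll (covered [Suz1782.orb1, Suz1782.orb2]) 512 512 = true := by decide +kernel

theorem cover_run3 : rangeAll (covered [Suz1782.orb1, Suz1782.orb2]) 512 1024 = true := by decide +kernel

theorem cover_run4 : rangeAll (covered [Suz1782.orb1, Suz1782.orb2]) 246 1536 = true := by decide +kernel

theorem covered_ok : Below (covered [Suz1782.orb1, Suz1782.orb2]) 1782 :=
  ((((Below.zero _).step (b := 512) cover_run1 rfl).step (b := 1024) cover_run2 rfl).step (b := 1536) cover_run3 rfl).step (b := 1782) cover_run4 rfl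

end Cfsg.Agent.Lib.CosetTable.SuzSimple
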